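import Groth.Agent.SepClosedNormal.Basic
import Groth.Agent.Hensel.TensorHenzFinite
import Groth.Agent.AcycCover.Fibres
import Groth.Agent.S8534
import Groth.Prelude.Def_Pi1
import Mathlib.AlgebraicGeometry.FunctionField

/-!
# The generic fibre of a strict localization of a locally acyclic morphism over a normal base
-/

set_option autoImplicit false
set_option linter.style.haveILetI false
universe u

open CategoryTheory CategoryTheory.Limits AlgebraicGeometry Opposite IsLocalRing

namespace Groth.Agent.GenAcyc

set_option backward.isDefEq.respectTransparency.types false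

variable {X Y : Scheme.{u}} [IsIntegral Y]

/-- the function field is separably closed when the residue field at the generic point is -/
theorem isSepClosed_functionField [IsSepClosed (Y.residueField (genericPoint Y))] : IsSepClosed Y.functionField := by
  refine IsSepClosed.of_exists_root _ fun p hp hirr hsep => ?_
  let r : Y.functionField →+* Y.residueField (genericPoint Y) := IsLocalRing.residue _
  obtain ⟨z, hz⟩ := IsSepClosed.exists_root (p.map r)
    (by rw [Polynomial.degree_map_eq_of_injective r.injective]; exact hirr.degree_pos.ne') hsep.map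
  obtain ⟨w, rfl⟩ := IsLocalRing.residue_surjective z
  refine ⟨w, r.injective ?_⟩
  have h : (p.map r).eval (r w) = 0 := hz
  rw [Polynomial.eval_map_apply] at h
  exact h.trans (map_zero r).symm

/-- pullbacks do not see a monomorphism composed on both sides -/
theorem isPullback_of_mono {C : Type*} [Category* C] {P A B W V : C} {p : P ⟶ A} {q : P ⟶ B} {a : A ⟶ W} {b : B ⟶ W}
    (m : W ⟶ V) [Mono m] {a' : A ⟶ V} {b' : B ⟶ V} (ha : a ≫ m = a') (hb : b ≫ m = b')
    (sq : IsPullback p q a' b') : IsPullback p q a b := by
  subst ha hb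
  have w : p ≫ a = q ≫ b := (cancel_mono m).1 (by simpa only [Category.assoc] using sq.w)
  refine ⟨⟨w⟩, ⟨PullbackCone.IsLimit.mk w
    (fun s => sq.lift s.fst s.snd (by rw [← Category.assoc, ← Category.assoc, s.condition]))
    (fun s => sq.lift_fst _ _ _) (fun s => sq.lift_snd _ _ _)
    (fun s k h1 h2 => sq.hom_ext (h1.trans (sq.lift_fst _ _ _).symm) (h2.trans (sq.lift_snd _ _ _).symm))⟩⟩

variable (hY : Pi1.IsNormalScheme Y) [IsSepClosed (Y.residueField (genericPoint Y))]

include hY in
/-- the generic fibre of a strict localization is an acyclic scheme -/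
theorem isAcyclicSchemeN_genFibre (f : X ⟶ Y) (L : Set ℕ) (hL : ∃ ℓ ∈ L, ℓ.Prime) (n : ℕ)
    (hf : EtAcyc.IsLocAcyclicN f L n) (x : X) (RX : Type u) [CommRing RX] [IsLocalRing RX]
    [Algebra (X.presheaf.stalk x) RX] [IsLocalHom (algebraMap (X.presheaf.stalk x) RX)]
    [Hensel.IsStrictHenselization (X.presheaf.stalk x) RX] :
    EtAcyc.IsAcyclicSchemeN L n
      (pullback (pullback.fst f (Y.fromSpecResidueField (genericPoint Y))) (Hens2.specOf X x RX)) := by
  let η := genericPoint Y
  let K : Type u := Y.residueField η
  let y := f.base x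
  let O : Type u := Y.presheaf.stalk y
  haveI : IsIntegrallyClosed O := (hY y).2
  haveI := isSepClosed_functionField (Y := Y)
  haveI : HenselianLocalRing O := SepClosedNormal.henselianLocalRing O Y.functionField
  haveI hsep : IsSepClosed (ResidueField O) := SepClosedNormal.isSepClosed_residueField O Y.functionField
  haveI : IsLocalHom (algebraMap O O) := ⟨fun _ hu => hu⟩
  haveI : Hensel.IsStrictHenselization O O := Hensel.isStrictHenselization_self O inferInstance hsep
  let ψ : O →+* RX := (algebraMap (X.presheaf.stalk x) RX).comp (f.stalkMap x).hom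
  letI : Algebra O RX := ψ.toAlgebra
  haveI : IsLocalHom (f.stalkMap x).hom := inferInstance
  haveI hψ : IsLocalHom (algebraMap O RX) :=
    RingHom.isLocalHom_comp (algebraMap (X.presheaf.stalk x) RX) (f.stalkMap x).hom
  let h : Spec (CommRingCat.of RX) ⟶ Spec (CommRingCat.of O) := Spec.map (CommRingCat.ofHom (algebraMap O RX))
  have hh : EtAcyc.IsAcyclicN h L n := hf x O RX rfl
  have hfib := S8534.result h L hL n hh
  -- the generic point of the local ring
  have hs : η ⤳ y := genericPoint_specializes y
  let ρ : CommRingCat.of O ⟶ CommRingCat.of K := Y.presheaf.stalkSpecializes hs ≫ Y.residue η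
  let j : Spec (CommRingCat.of K) ⟶ Spec (CommRingCat.of O) := Spec.map ρ
  let a : Spec (CommRingCat.of O) ⟶ Y := Y.fromSpecStalk y
  haveI : Mono a := inferInstanceAs (Mono (Y.fromSpecStalk y))
  have hj : j ≫ a = Y.fromSpecResidueField η := by
    show Spec.map (Y.presheaf.stalkSpecializes hs ≫ Y.residue η) ≫ Y.fromSpecStalk y = _
    rw [Spec.map_comp, Category.assoc, Scheme.SpecMap_stalkSpecializes_fromSpecStalk]
    rfl
  have hha : h ≫ a = Hens2.specOf X x RX ≫ f := by
    show Spec.map (CommRingCat.ofHom ψ) ≫ Y.fromSpecStalk (f.base x) = _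
    rw [UnitStalk.specMap_fromSpecStalk, Category.assoc]
  -- the residue field of its image
  obtain ⟨⟨y', φ⟩, hyφ⟩ := (Scheme.SpecToEquivOfField K (Spec (CommRingCat.of O))).symm.surjective j
  have hjφ : Spec.map φ ≫ (Spec (CommRingCat.of O)).fromSpecResidueField y' = j := hyφ
  letI : Algebra ((Spec (CommRingCat.of O)).residueField y') K := φ.hom.toAlgebra
  have hρ : Spec.preimage ((Spec (CommRingCat.of O)).fromSpecResidueField y') ≫ φ = ρ := by
    refine Spec.map_injective ?_
    rw [Spec.map_comp, Spec.map_preimage]
    exact hjφ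
  have hsurj : Function.Surjective φ.hom := by
    intro z
    obtain ⟨w, rfl⟩ := IsLocalRing.residue_surjective (R := Y.functionField) z
    obtain ⟨c, d, hd, rfl⟩ := IsFractionRing.div_surjective O w
    have key : ∀ o : O, IsLocalRing.residue Y.functionField (algebraMap O Y.functionField o) ∈ φ.hom.range :=
      fun o => ⟨(Spec.preimage ((Spec (CommRingCat.of O)).fromSpecResidueField y')).hom o,
        ConcreteCategory.congr_hom hρ o⟩
    obtain ⟨c', hc'⟩ := key c
    obtain ⟨d', hd'⟩ := key d
    refine ⟨c' / d', ?_⟩
    rw [map_div₀, map_div₀, hc', hd']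
    rfl
  haveI : Algebra.IsAlgebraic ((Spec (CommRingCat.of O)).residueField y') K := ⟨fun z => by
    obtain ⟨w, rfl⟩ := hsurj z
    exact isAlgebraic_algebraMap w⟩
  have hgeo : EtAcyc.geomPt (Spec (CommRingCat.of O)) y' K = j := hjφ
  have hacyc := hfib y' K
  -- the fibre
  let g₁ := pullback.fst f (Y.fromSpecResidueField η)
  have hP := (IsPullback.of_hasPullback g₁ (Hens2.specOf X x RX)).flip.paste_vert
    (IsPullback.of_hasPullback f (Y.fromSpecResidueField η))
  exact AcycCover.isAcyclicSchemeN_of_iso
    ((isPullback_of_mono a hha hj hP).isoPullback ≪≫ pullback.congrHom rfl hgeo.symm) hacyc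

end Groth.Agent.GenAcyc
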