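import Groth.Agent.GenAcyc.Const
import Groth.Agent.GenAcyc.Point
import Groth.Agent.AcycCover.Local
import Groth.Agent.EtFound.AcyclicComp
import Groth.Agent.EtBC.TorsionAcyclic
import Groth.Agent.EtFound.EdgeVanish

/-!
# Cohomology of the generic fibre of a locally acyclic morphism over a normal base
-/

set_option autoImplicit false
set_option linter.style.haveILetI false
universe u

open CategoryTheory CategoryTheory.Limits AlgebraicGeometry Opposite IsLocalRing CategoryTheory.Abelian

namespace Groth.Agent.GenAcyc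

open Groth.Agent.EtLimit Groth.Agent.EtFound Groth.Agent.EtBC

set_option backward.isDefEq.respectTransparency.types false

/-- the spectrum of a local ring is connected -/
theorem connectedSpace_specLocal (R : Type u) [CommRing R] [IsLocalRing R] :
    ConnectedSpace (Spec (CommRingCat.of R)) := by
  haveI : Nonempty (PrimeSpectrum R) := ⟨closedPoint R⟩
  refine connectedSpace_iff_connectedComponent.2 ⟨closedPoint R, Set.eq_univ_of_forall fun t => ?_⟩
  have h : (closedPoint R : PrimeSpectrum R) ∈ connectedComponent t :=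
    (IsLocalRing.specializes_closedPoint t).mem_closed isClosed_connectedComponent mem_connectedComponent
  exact (connectedComponent_eq h).subset mem_connectedComponent

/-- constant sheaves have the same global classes on connected schemes -/
theorem const_Hpull_zero_bijective {P T : Scheme.{u}} (b : P ⟶ T) [PreservesFiniteLimits (EtCoh.pull b)]
    [Nonempty P] [ConnectedSpace P] [Nonempty T] [ConnectedSpace T] (A : AddCommGrpCat.{u + 1}) :
    Function.Bijective
      (EtCore.Hpull b ((constantSheaf T.smallEtaleTopology AddCommGrpCat.{u + 1}).obj A) 0) := by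
  let Z : AddCommGrpCat.{u + 1} := AddCommGrpCat.of (ULift.{u + 1} ℤ)
  let CT := constantSheaf T.smallEtaleTopology AddCommGrpCat.{u + 1}
  let CP := constantSheaf P.smallEtaleTopology AddCommGrpCat.{u + 1}
  let eT : (Z ⟶ A) → EtCoh.H T (CT.obj A) 0 := fun f => Ext.mk₀ (CT.map f)
  let eP : (Z ⟶ A) → EtCoh.H P (CP.obj A) 0 := fun f => Ext.mk₀ (CP.map f)
  have hT : Function.Bijective eT := (Ext.mk₀_bijective _ _).comp (const_map_bijective T Z A)
  have hP : Function.Bijective eP := (Ext.mk₀_bijective _ _).comp (const_map_bijective P Z A)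
  let α := (EtCore.pullConstIso b).hom.app A
  have hfun : (fun f => hmap α 0 (EtCore.Hpull b (CT.obj A) 0 (eT f))) = eP := funext fun f => by
    show ((Ext.mk₀ (EtCore.pullConst b ℤ).inv).comp ((Ext.mk₀ (CT.map f)).mapExactFunctor (EtCoh.pull b))
      (zero_add 0)).comp (Ext.mk₀ α) (add_zero 0) = Ext.mk₀ (CP.map f)
    rw [Ext.mapExactFunctor_mk₀, Ext.mk₀_comp_mk₀, Ext.mk₀_comp_mk₀]
    refine congrArg Ext.mk₀ ?_
    have hn : (EtCoh.pull b).map (CT.map f) ≫ α = (EtCore.pullConstIso b).hom.app Z ≫ CP.map f :=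
      (EtCore.pullConstIso b).hom.naturality f
    refine (Category.assoc _ _ _).trans ((congrArg ((EtCore.pullConst b ℤ).inv ≫ ·) hn).trans ?_)
    exact ((EtCore.pullConstIso b).app Z).inv_hom_id_assoc _
  rw [← hfun] at hP
  exact (Function.Bijective.of_comp_iff _ hT).1
    ((Function.Bijective.of_comp_iff' (hmap_bijective α 0) _).1 hP)

/-- the values of a constant torsion sheaf are torsion -/
theorem primesIn_of_isLTorsion {T : Scheme.{u}} [Nonempty T] {L : Set ℕ} (A : AddCommGrpCat.{u + 1})
    (h : EtAcyc.IsLTorsion L ((constantSheaf T.smallEtaleTopology AddCommGrpCat.{u + 1}).obj A)) (a : A) :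
    ∃ m, EtAcyc.PrimesIn L m ∧ m • a = 0 := by
  obtain ⟨Ω, _, _, ξ, v, -⟩ := EtFound.exists_point_through (EtCoh.top T) (Classical.arbitrary T)
  let g := (toSheafify T.smallEtaleTopology ((Functor.const T.Etaleᵒᵖ).obj A)).app (op (EtCoh.top T)) ≫
    (Scheme.pointSmallEtale ξ).toPresheafFiber (EtCoh.top T) v _
  have hg : Function.Bijective g := toSheafify_const_germ_bijective ξ AddCommGrpCat.{u + 1} A (EtCoh.top T) v
  obtain ⟨m, hm, h0⟩ := (S8525.result L _).1 h Ω ξ (g a)
  refine ⟨m, hm, hg.1 ?_⟩
  rw [map_nsmul, map_zero]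
  exact h0

/-- constant torsion sheaves are torsion -/
theorem isLTorsion_const (T : Scheme.{u}) {L : Set ℕ} (A : AddCommGrpCat.{u + 1})
    (h : ∀ a : A, ∃ m, EtAcyc.PrimesIn L m ∧ m • a = 0) :
    EtAcyc.IsLTorsion L ((constantSheaf T.smallEtaleTopology AddCommGrpCat.{u + 1}).obj A) := by
  refine (S8525.result L _).2 fun Ω _ _ ξ t => ?_
  let v : (Scheme.pointSmallEtale ξ).fiber.obj (EtCoh.top T) := CategoryTheory.Over.homMk ξ (Category.comp_id _)
  let g : A ⟶ (EtCoh.stalk ξ).obj ((constantSheaf T.smallEtaleTopology AddCommGrpCat.{u + 1}).obj A) :=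
    (toSheafify T.smallEtaleTopology ((Functor.const T.Etaleᵒᵖ).obj A)).app (op (EtCoh.top T)) ≫
      (Scheme.pointSmallEtale ξ).toPresheafFiber (EtCoh.top T) v _
  obtain ⟨a, ha⟩ : ∃ a : A, g a = t :=
    (toSheafify_const_germ_bijective ξ AddCommGrpCat.{u + 1} A (EtCoh.top T) v).2 t
  obtain ⟨m, hm, h0⟩ := h a
  refine ⟨m, hm, ?_⟩
  rw [← ha, ← map_nsmul, h0, map_zero]

variable {X Y : Scheme.{u}} [IsIntegral Y] (hY : Pi1.IsNormalScheme Y)
  [IsSepClosed (Y.residueField (genericPoint Y))] (f : X ⟶ Y) (L : Set ℕ) (hL : ∃ ℓ ∈ L, ℓ.Prime) (n : ℕ)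
  (hf : EtAcyc.IsLocAcyclicN f L n) (F : EtCoh.Ab X) (hF : EtAcyc.IsLTorsion L F) (hlc : EtRest.IsLocallyConstant F)

include hY hL hf hF hlc in
set_option maxHeartbeats 1000000 in
/-- the pullback to the generic fibre of a strict localization -/
theorem bijective_genFibre (x : X) (RX : Type u) [CommRing RX] [IsLocalRing RX]
    [Algebra (X.presheaf.stalk x) RX] [IsLocalHom (algebraMap (X.presheaf.stalk x) RX)]
    [hRX : Hensel.IsStrictHenselization (X.presheaf.stalk x) RX]
    [PreservesFiniteLimits (EtCoh.pull (pullback.snd (pullback.fst f (Y.fromSpecResidueField (genericPoint Y)))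
      (Hens2.specOf X x RX)))] (q : ℕ) (hq : q ≤ n) :
    Function.Bijective (hVia
      (pullback.snd (pullback.fst f (Y.fromSpecResidueField (genericPoint Y))) (Hens2.specOf X x RX))
      (Hens2.specOf X x RX)
      (pullback.fst (pullback.fst f (Y.fromSpecResidueField (genericPoint Y))) (Hens2.specOf X x RX) ≫
        pullback.fst f (Y.fromSpecResidueField (genericPoint Y))) pullback.condition.symm F q) := by
  let i := Y.fromSpecResidueField (genericPoint Y)
  let g := pullback.fst f i
  let π := Hens2.specOf X x RX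
  let b := pullback.snd g π
  let G := (EtCoh.pull π).obj F
  haveI := hRX.henselian
  haveI := hRX.isSepClosure.sep_closed
  suffices hb : Function.Bijective (EtCore.Hpull b G q) by
    haveI : IsIso (appOf (θPull b π (pullback.fst g π ≫ g) pullback.condition.symm) F) := by
      delta appOf; infer_instance
    exact (hmap_bijective (appOf (θPull b π (pullback.fst g π ≫ g) pullback.condition.symm) F) q).comp hb
  have hac := isAcyclicSchemeN_genFibre hY f L hL n hf x RX
  haveI := hac.1
  haveI := hac.2.1
  obtain ⟨A, ⟨e⟩⟩ := exists_iso_const hlc RX π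
  haveI : ConnectedSpace (Spec (CommRingCat.of RX)) := connectedSpace_specLocal RX
  obtain _ | p := q
  · exact UnitStalk.Hpull_bijective_of_iso b e.inv 0 (const_Hpull_zero_bijective b A)
  · -- both sides vanish
    haveI h1 : Subsingleton (EtCoh.H (Spec (CommRingCat.of RX)) G (p + 1)) := S0073.result RX G (p + 1) (by omega)
    haveI : QuasiCompact g := MorphismProperty.pullback_fst _ _ inferInstance
    haveI : QuasiSeparated g := MorphismProperty.pullback_fst _ _ inferInstance
    haveI : QuasiCompact b := MorphismProperty.pullback_snd _ _ inferInstance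
    haveI : QuasiSeparated b := MorphismProperty.pullback_snd _ _ inferInstance
    haveI : CompactSpace ↥(pullback g π) := QuasiCompact.compactSpace_of_compactSpace b
    haveI : QuasiSeparatedSpace ↥(pullback g π) := quasiSeparatedSpace_of_quasiSeparated b
    let K : Type u := Y.residueField (genericPoint Y)
    let hη : pullback g π ⟶ Spec (CommRingCat.of K) := pullback.fst g π ≫ pullback.snd f i
    haveI : PreservesFiniteLimits (EtCoh.pull hη) := pull_preservesFiniteLimits _
    let CK := (constantSheaf (Spec (CommRingCat.of K)).smallEtaleTopology AddCommGrpCat.{u + 1}).obj A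
    have htor : EtAcyc.IsLTorsion L CK := isLTorsion_const _ A fun a => primesIn_of_isLTorsion A
      (isLTorsion_of_iso e.symm (isLTorsion_pull π L hF)) a
    have hgood := AcycCover.goodCoeff_of_isAcyclicScheme hη L hac CK htor
    haveI := hgood.2 (p + 1) (by omega) hq
    let e' : (EtCoh.pull b).obj G ≅ (EtCoh.pull hη).obj CK :=
      (EtCoh.pull b).mapIso e.symm ≪≫ (EtCore.pullConstIso b).app A ≪≫ ((EtCore.pullConstIso hη).app A).symm
    haveI h2 : Subsingleton (EtCoh.H (pullback g π) ((EtCoh.pull b).obj G) (p + 1)) :=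
      (hmap_bijective e'.hom (p + 1)).1.subsingleton
    exact ⟨fun z z' _ => Subsingleton.elim (α := EtCoh.H (Spec (CommRingCat.of RX)) G (p + 1)) z z', fun z => ⟨0,
      Subsingleton.elim (α := EtCoh.H (pullback g π) ((EtCoh.pull b).obj G) (p + 1)) _ z⟩⟩

include hY hL hf hF hlc in
set_option maxHeartbeats 1000000 in
/-- the pullback to the generic fibre -/
theorem Hpull_genericFibre [PreservesFiniteLimits (EtCoh.pull (pullback.fst f (Y.fromSpecResidueField (genericPoint Y))))] :
    (∀ q : ℕ, q ≤ n →
      Function.Bijective (EtCore.Hpull (pullback.fst f (Y.fromSpecResidueField (genericPoint Y))) F q)) ∧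
    Function.Injective (EtCore.Hpull (pullback.fst f (Y.fromSpecResidueField (genericPoint Y))) F (n + 1)) := by
  let h := pullback.fst f (Y.fromSpecResidueField (genericPoint Y))
  haveI : QuasiCompact h := MorphismProperty.pullback_fst _ _ inferInstance
  haveI : QuasiSeparated h := MorphismProperty.pullback_fst _ _ inferInstance
  have hiso : IsIso ((EtCoh.pullPushAdj h).unit.app F) := EtFound.isIso_of_stalks _ fun Ω _ _ ξ => by
    obtain ⟨v, RV, _, _, _, _, hRV, τ, rfl⟩ := exists_strict_point ξ
    haveI := hRV.henselian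
    haveI := hRV.isSepClosure.sep_closed
    obtain ⟨P⟩ := nonempty_etPres_specOf X v RV
    haveI := pull_preservesFiniteLimits (pullback.snd h (Hens2.specOf X v RV))
    haveI := UnitStalk.isIso_stalk_unit h P (liftsUniquely_strict RV _ _ (resPt_base RV τ)) F
      (bijective_genFibre hY f L hL n hf F hF hlc v RV 0 (Nat.zero_le _))
    exact (ConcreteCategory.isIso_iff_bijective
      ((EtCoh.stalk (resPt RV τ ≫ Hens2.specOf X v RV)).map ((EtCoh.pullPushAdj h).unit.app F))).1 inferInstance
  have hv : ∀ q, 1 ≤ q → q ≤ n → IsZero ((EtCoh.Rpush h q).obj ((EtCoh.pull h).obj F)) := fun q h1 hqn =>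
    (isZero_iff_stalks _).2 fun Ω _ _ ξ => by
      obtain ⟨v, RV, _, _, _, _, hRV, τ, rfl⟩ := exists_strict_point ξ
      haveI := hRV.henselian
      haveI := hRV.isSepClosure.sep_closed
      obtain ⟨P⟩ := nonempty_etPres_specOf X v RV
      haveI := pull_preservesFiniteLimits (pullback.snd h (Hens2.specOf X v RV))
      exact UnitStalk.isZero_stalk_Rpush h P (liftsUniquely_strict RV _ _ (resPt_base RV τ)) F q h1
        (bijective_genFibre hY f L hL n hf F hF hlc v RV q hqn)
  haveI := EtFound.push_preservesFiniteLimits h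
  let η := (EtCoh.pullPushAdj h).unit.app F
  haveI : IsIso η := hiso
  obtain ⟨hb, hi⟩ := EtFound.edge_bijective_of_vanish (EtCoh.pullPushAdj h) n ((EtCoh.pull h).obj F) hv
    (EtCoh.const X ℤ)
  have hfun : ∀ q, (EtCore.Hpull h F q : _ → _) =
      ((fun z => (Ext.mk₀ (EtCore.pullConst h ℤ).inv).comp z (zero_add q)) ∘
        EtFound.edge (EtCoh.pullPushAdj h) (EtCoh.const X ℤ) ((EtCoh.pull h).obj F) q) ∘
          fun x => x.comp (Ext.mk₀ η) (add_zero q) := fun q => funext fun x => by
    show (Ext.mk₀ (EtCore.pullConst h ℤ).inv).comp (x.mapExactFunctor (EtCoh.pull h)) (zero_add q) =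
      (Ext.mk₀ (EtCore.pullConst h ℤ).inv).comp (EtFound.edge _ _ _ q _) (zero_add q)
    rw [EtFound.edge_apply, Ext.mapExactFunctor_comp, Ext.mapExactFunctor_mk₀,
      Ext.comp_assoc_of_third_deg_zero, Ext.mk₀_comp_mk₀]
    erw [Adjunction.left_triangle_components]
    rw [Ext.comp_mk₀_id]
  have hpre : ∀ q, Function.Bijective (fun z : Ext.{u + 1} ((EtCoh.pull h).obj (EtCoh.const X ℤ))
      ((EtCoh.pull h).obj F) q => (Ext.mk₀ (EtCore.pullConst h ℤ).inv).comp z (zero_add q)) :=
    fun q => EtFound.precomp_bijective _ _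
  have hpost : ∀ q, Function.Bijective (fun x : EtCoh.H X F q => x.comp (Ext.mk₀ η) (add_zero q)) :=
    fun q => EtFound.postcomp_bijective _ _
  refine ⟨fun q hq => ?_, ?_⟩
  · rw [hfun q]
    exact ((hpre q).comp (hb q hq)).comp (hpost q)
  · rw [hfun (n + 1)]
    exact ((hpre _).1.comp hi).comp (hpost _).1

omit hL in
include hF in
/-- without primes the sheaf vanishes -/
theorem isZero_of_no_prime (h : ¬ ∃ ℓ ∈ L, ℓ.Prime) : IsZero F := by
  refine (isZero_iff_stalks _).2 fun Ω _ _ ξ => ?_
  haveI : Subsingleton ((EtCoh.stalk ξ).obj F) := subsingleton_of_forall_eq 0 fun t => by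
    obtain ⟨m, ⟨hm, hp⟩, h0⟩ := (S8525.result L F).1 hF Ω ξ t
    have : m = 1 := by
      by_contra h1
      obtain ⟨p, hpp, hpm⟩ := Nat.exists_prime_and_dvd h1
      exact h ⟨p, hp p hpp hpm, hpp⟩
    rwa [this, one_smul] at h0
  exact AddCommGrpCat.isZero_of_subsingleton _

end Groth.Agent.GenAcyc
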