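import Groth.Agent.EtFound.PullConst
import Groth.Agent.EtFound.ConstStalk
import Groth.Agent.EtFound.Henselian
import Groth.Agent.AcycCover.ConstConn
import Groth.Prelude.Def_EtRestW

/-!
# Locally constant sheaves on strictly local schemes are constant
-/

set_option autoImplicit false
set_option linter.style.haveILetI false
universe u

open CategoryTheory CategoryTheory.Limits AlgebraicGeometry Opposite IsLocalRing

namespace Groth.Agent.GenAcyc

open Groth.Agent.EtFound

set_option backward.isDefEq.respectTransparency.types false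

variable {X : Scheme.{u}}

/-- the map of presheaves given by a family of global sections -/
noncomputable def topPreMap {G : EtCoh.Ab X} {M : AddCommGrpCat.{u + 1}} (φ : M ⟶ G.obj.obj (op (EtCoh.top X))) :
    (Functor.const X.Etaleᵒᵖ).obj M ⟶ G.obj where
  app V := φ ≫ G.obj.map ((EtCore.topIsTerminal X).from V.unop).op
  naturality V W g := by
    refine (Category.id_comp _).trans ?_
    rw [Category.assoc]
    refine congrArg (φ ≫ ·) ?_
    refine Eq.trans ?_ (G.obj.map_comp _ g)
    exact congrArg G.obj.map (Quiver.Hom.unop_inj ((EtCore.topIsTerminal X).hom_ext _ _))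

/-- a family of global sections bijective at all geometric points gives an isomorphism with the constant sheaf -/
theorem nonempty_iso_const {G : EtCoh.Ab X} {M : AddCommGrpCat.{u + 1}} {φ : M ⟶ G.obj.obj (op (EtCoh.top X))}
    (h : ConstBy G φ) : Nonempty ((constantSheaf X.smallEtaleTopology AddCommGrpCat.{u + 1}).obj M ≅ G) := by
  let J := X.smallEtaleTopology
  let η : (Functor.const X.Etaleᵒᵖ).obj M ⟶ G.obj := topPreMap φ
  let ψ : (presheafToSheaf J AddCommGrpCat.{u + 1}).obj ((Functor.const X.Etaleᵒᵖ).obj M) ⟶ G :=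
    ⟨sheafifyLift J η G.property⟩
  have hψ : toSheafify J _ ≫ ψ.hom = η := toSheafify_sheafifyLift J η G.property
  have htop : η.app (op (EtCoh.top X)) = φ := by
    show φ ≫ G.obj.map _ = φ
    rw [(EtCore.topIsTerminal X).hom_ext ((EtCore.topIsTerminal X).from _) (𝟙 _), op_id,
      CategoryTheory.Functor.map_id, Category.comp_id]
  have hiso : IsIso ψ := by
    refine isIso_of_stalks ψ fun k _ _ ξ => ?_
    let Ω := AlgebraicClosure k
    let e : Spec (CommRingCat.of Ω) ⟶ Spec (CommRingCat.of k) := Spec.map (CommRingCat.ofHom (algebraMap k Ω))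
    let Φ := Scheme.pointSmallEtale (e ≫ ξ)
    let t : Φ.fiber.obj (EtCoh.top X) := CategoryTheory.Over.homMk (e ≫ ξ) (Category.comp_id _)
    let g := toSheafify J ((Functor.const X.Etaleᵒᵖ).obj M)
    have hg : Function.Bijective (g.app (op (EtCoh.top X)) ≫ Φ.toPresheafFiber (EtCoh.top X) t _) :=
      toSheafify_const_germ_bijective (e ≫ ξ) AddCommGrpCat.{u + 1} M (EtCoh.top X) t
    have hcomp : (g.app (op (EtCoh.top X)) ≫ Φ.toPresheafFiber (EtCoh.top X) t _) ≫ Φ.presheafFiber.map ψ.hom =
        φ ≫ Φ.toPresheafFiber (EtCoh.top X) t G.obj := by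
      rw [Category.assoc, Φ.toPresheafFiber_naturality, ← Category.assoc]
      exact congrArg (· ≫ Φ.toPresheafFiber (EtCoh.top X) t G.obj)
        ((congrArg (fun k : (Functor.const X.Etaleᵒᵖ).obj M ⟶ G.obj => k.app (op (EtCoh.top X))) hψ).trans htop)
    haveI := (ConcreteCategory.isIso_iff_bijective _).2 hg
    haveI : IsIso ((g.app (op (EtCoh.top X)) ≫ Φ.toPresheafFiber (EtCoh.top X) t _) ≫ Φ.presheafFiber.map ψ.hom) := by
      rw [hcomp]
      exact (ConcreteCategory.isIso_iff_bijective _).2 (h Ω (e ≫ ξ) t)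
    have h0 : IsIso (Φ.presheafFiber.map ψ.hom) :=
      IsIso.of_isIso_comp_left (g.app (op (EtCoh.top X)) ≫ Φ.toPresheafFiber (EtCoh.top X) t _) _
    have h1 : IsIso ((EtCoh.stalk (e ≫ ξ)).map ψ) := h0
    have h2 : IsIso ((EtCoh.stalk ξ).map ψ) :=
      (NatIso.isIso_map_iff (stalkExtIso AddCommGrpCat.{u + 1} ξ e) ψ).2 h1
    exact (ConcreteCategory.isIso_iff_bijective ((EtCoh.stalk ξ).map ψ)).1 h2
  exact ⟨@asIso _ _ _ _ ψ hiso⟩

/-- a locally constant sheaf becomes constant on a strictly local scheme over the base -/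
theorem exists_iso_const {F : EtCoh.Ab X} (hlc : EtRest.IsLocallyConstant F) (R : Type u) [CommRing R]
    [HenselianLocalRing R] [IsSepClosed (ResidueField R)] (π : Spec (CommRingCat.of R) ⟶ X) :
    ∃ M : AddCommGrpCat.{u + 1}, Nonempty ((constantSheaf (Spec (CommRingCat.of R)).smallEtaleTopology
      AddCommGrpCat.{u + 1}).obj M ≅ (EtCoh.pull π).obj F) := by
  obtain ⟨ι, U, hU, hc⟩ := hlc
  obtain ⟨i, p, hp⟩ := hU (π.base (closedPoint R))
  obtain ⟨M, iM, ⟨e⟩⟩ := hc i
  obtain ⟨φ, hφ⟩ := exists_constBy e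
  have hψ := constBy_pull π hφ
  let U' := (EtCoh.bc π).obj (U i)
  haveI : AlgebraicGeometry.Etale U'.hom := U'.prop
  obtain ⟨z, -, hz⟩ := Scheme.Pullback.exists_preimage_pullback (f := (U i).hom) (g := π) p (closedPoint R) hp
  obtain ⟨l, hl, -⟩ := Scheme.exists_fac_of_etale_of_isSepClosed U'.hom (cpt R) z
    (hz.trans (cpt_base R default).symm)
  obtain ⟨g, -, -⟩ := existsUnique_hom R U' (CategoryTheory.Over.homMk l hl)
  exact ⟨AddCommGrpCat.of M, nonempty_iso_const (hψ.restrict g)⟩

/-- on a connected nonempty scheme constant sheaves only have constant morphisms -/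
theorem const_map_bijective (X : Scheme.{u}) [Nonempty X] [ConnectedSpace X] (Z A : AddCommGrpCat.{u + 1}) :
    Function.Bijective (fun f : Z ⟶ A => (constantSheaf X.smallEtaleTopology AddCommGrpCat.{u + 1}).map f) := by
  haveI : IsIso ((EtCore.constAdj X).unit.app A) := by
    have he : (EtCore.constAdj X).unit.app A = FibreAcyc.constSec A (EtCoh.top X) := by
      refine (Adjunction.comp_unit_app _ _ _).trans ?_
      exact Category.id_comp _
    rw [he]
    exact (ConcreteCategory.isIso_iff_bijective _).2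
      ⟨FibreAcyc.constSec_injective A _ ‹_›, AcycCover.constSec_surjective A⟩
  refine (Function.Bijective.of_comp_iff' ((EtCore.constAdj X).homEquiv Z _).bijective _).1 ?_
  have he : (⇑((EtCore.constAdj X).homEquiv Z ((constantSheaf X.smallEtaleTopology AddCommGrpCat.{u + 1}).obj A)) ∘
      fun f : Z ⟶ A => (constantSheaf X.smallEtaleTopology AddCommGrpCat.{u + 1}).map f) =
      fun f => f ≫ (EtCore.constAdj X).unit.app A := funext fun f => by
    refine (Adjunction.homEquiv_unit _ _ _ _).trans ?_
    exact ((EtCore.constAdj X).unit.naturality f).symm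
  rw [he]
  exact ⟨fun f g h => (cancel_mono _).1 h, fun f => ⟨f ≫ inv ((EtCore.constAdj X).unit.app A), by simp⟩⟩

end Groth.Agent.GenAcyc
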